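import Cfsg.Agent.H511.Ore.Deg
import Cfsg.Agent.H559.FiSpec
import Cfsg.Agent.H991.QA.FiFive
import Cfsg.Agent.H973.QA.Crit
import Cfsg.Agent.H121.Cyc.Spor
import Cfsg.Agent.NotCT.Orders
import Cfsg.Agent.H664.Eight.Base
import Cfsg.Agent.H450.S8.Core
import Cfsg.Agent.H498.SporOut
import Cfsg.Agent.S2079
import Cfsg.Agent.S1696

/-!
# S4908, `Fi22`: the numerical facts on the degrees (helper604)

`deg` : a degree of `Fi22` divides `|Fi22|`, is `1` or at least `24`, is `0, ±1, ±6` modulo `13` and `0, ±1, ±5` modulo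
`11`.
-/

set_option autoImplicit false

open Cfsg Subgroup

namespace Cfsg.Agent.H604.S8.Fi22

open Cfsg.Agent.H653.Sieve Cfsg.Agent.H651.Two Cfsg.Agent.Characters.Core
open Cfsg.Agent.NotCT

def c11 : CD := ⟨11, 2, 5, 2, [(0, 0), (1, 2), (5, -1), (6, 1), (10, -2)], 0, false⟩

def c13 : CD := ⟨13, 1, 6, 2, [(0, 0), (1, 2), (6, -1), (7, 1), (12, -2)], 2, true⟩

theorem ok11 : CD.ok 64561751654400 c11 = true := by decide +kernel

theorem ok13 : CD.ok 64561751654400 c13 = true := by decide +kernel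

theorem card : Nat.card Spor.Fi22 = 64561751654400 := Orders.fi22 (K := Spor.Fi22) ⟨MulEquiv.refl _⟩

theorem fin : Finite Spor.Fi22 := Nat.finite_of_card_ne_zero (by rw [card]; norm_num)

theorem simple : IsSimpleGroup Spor.Fi22 := Cfsg.Agent.S1696.result.1

theorem not_comm : ¬ IsMulCommutative Spor.Fi22 := by
  intro hc
  have := simple
  have := fin
  let _ : CommGroup Spor.Fi22 := { (inferInstance : Group Spor.Fi22) with mul_comm := hc.is_comm.comm }
  have h : (Nat.card Spor.Fi22).Prime := IsSimpleGroup.prime_card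
  rw [card] at h
  norm_num at h

theorem exists_ord {p : ℕ} (hp : p.Prime) (hd : p ∣ 64561751654400) : ∃ x : Spor.Fi22, orderOf x = p := by
  have := fin
  have := Fact.mk hp
  exact exists_prime_orderOf_dvd_card' p (by rw [card]; exact hd)

theorem has11 : c11.Has Spor.Fi22 := by
  obtain ⟨x, hx⟩ := exists_ord (p := 11) (by norm_num) (by norm_num)
  exact ⟨by norm_num [c11], x, hx, Cfsg.Agent.H559.FiSpec.cent11 ⟨MulEquiv.refl _⟩ hx⟩

theorem has13 : c13.Has Spor.Fi22 := by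
  obtain ⟨x, hx⟩ := exists_ord (p := 13) (by norm_num) (by norm_num)
  exact ⟨by norm_num [c13], x, hx, Cfsg.Agent.H559.FiSpec.cent13 ⟨MulEquiv.refl _⟩ hx⟩

theorem minDeg : H122.MinDeg Spor.Fi22 24 := by
  have := simple
  have := fin
  obtain ⟨Y, hY, hab, hexp, hcj⟩ := Cfsg.Agent.H991.QA.fi22_five
  have h1 := H973.QA.minDeg_conj (H973.QA.isCover_id (H121.Cyc.commutator_top not_comm)) Nat.prime_five (by
    have h1 : (MonoidHom.id Spor.Fi22).ker = ⊥ := by
      rw [MonoidHom.ker_eq_bot_iff]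
      exact fun _ _ h => h
    rw [h1, card_bot]
    norm_num) Y hab hexp (by
    rintro rfl
    rw [Subgroup.card_bot] at hY
    omega) hcj
  rwa [hY] at h1

theorem ge {d : ℕ} (hd : d ∈ charDegrees Spor.Fi22) (h2 : 2 ≤ d) : 24 ≤ d := by
  have := fin
  obtain ⟨χ, ⟨n, ρ, hρ, rfl⟩, h1⟩ := H424.DegTools.mem_charDegrees.1 hd
  rw [Representation.char_one, Module.finrank_fin_fun] at h1
  obtain rfl : n = d := by exact_mod_cast h1
  exact minDeg.irr n ρ hρ h2

theorem deg {d : ℕ} (hd : d ∈ charDegrees Spor.Fi22) :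
    d ∣ 64561751654400 ∧ (d = 1 ∨ 24 ≤ d) ∧
      (d % 13 = 0 ∨ d % 13 = 1 ∨ d % 13 = 6 ∨ d % 13 = 7 ∨ d % 13 = 12) ∧
      (d % 11 = 0 ∨ d % 11 = 1 ∨ d % 11 = 5 ∨ d % 11 = 6 ∨ d % 11 = 10) := by
  have := simple
  have := fin
  have hge := ge hd
  have hpos := H424.DegTools.pos_of_mem hd
  obtain ⟨χ, rfl⟩ := hd
  refine ⟨card ▸ H511.Ore.charDegree_dvd χ, ?_, ?_, ?_⟩
  · rcases Nat.lt_or_ge (charDegree (χ : Spor.Fi22 → ℂ)) 2 with h | h
    · left; omega
    · right; exact hge h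
  · have h := H511.Ore.res_of_has not_comm card has13 ok13 χ
    simpa [c13, or_assoc] using h
  · have h := H511.Ore.res_of_has not_comm card has11 ok11 χ
    simpa [c11, or_assoc] using h

theorem degX {X : Type*} [Group X] (hX : Spor.IsoFi22 X) {d : ℕ} (hd : d ∈ charDegrees X) :
    d ∣ 64561751654400 ∧ (d = 1 ∨ 24 ≤ d) ∧
      (d % 13 = 0 ∨ d % 13 = 1 ∨ d % 13 = 6 ∨ d % 13 = 7 ∨ d % 13 = 12) ∧
      (d % 11 = 0 ∨ d % 11 = 1 ∨ d % 11 = 5 ∨ d % 11 = 6 ∨ d % 11 = 10) := by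
  obtain ⟨e⟩ := hX
  exact deg (H664.Eight.charDegrees_subset e.symm hd)

theorem num {X : Type*} [Group X] (hX : Spor.IsoFi22 X) :
    H450.S8.Num (charDegrees X) 64561751654400 (H450.S8.okDeg 24 [(13, 6), (11, 5)]) where
  pos := by norm_num
  dvd hd := (degX hX hd).1
  ok {d} hd := by
    obtain ⟨-, h1, h2, h3⟩ := degX hX hd
    rw [H450.S8.okDeg, Bool.and_eq_true]
    refine ⟨?_, ?_⟩
    · rw [Bool.or_eq_true, beq_iff_eq, decide_eq_true_eq]
      exact h1
    · rw [List.all_eq_true]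
      intro x hx
      simp only [List.mem_cons, List.not_mem_nil, or_false] at hx
      rcases hx with rfl | rfl
      · rcases h2 with h | h | h | h | h <;> rw [h] <;> decide
      · rcases h3 with h | h | h | h | h <;> rw [h] <;> decide

theorem index_le {X : Type*} [Group X] (hX : Spor.IsoFi22 X) : (MulAut.conj : X →* MulAut X).range.index ≤ 2 := by
  obtain ⟨e⟩ := hX
  rw [H498.SporOut.index_congr e]
  exact Cfsg.Agent.S2079.result.le

end Cfsg.Agent.H604.S8.Fi22
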